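import Groth.Agent.SGA3cLib.Homogeneous
import Groth.Agent.SGA3cLib.ActionPoints
import Groth.Agent.AlgGrpLib.Equidim
import Groth.Agent.DimLib.Sub

/-! Connected components of homogeneous spaces over an artinian local ring have the same dimension. -/

set_option autoImplicit false
set_option linter.style.haveILetI false
set_option backward.isDefEq.respectTransparency.types false

universe u

open CategoryTheory Limits AlgebraicGeometry MonoidalCategory CartesianMonoidalCategory MonObj GrpObj
open Groth.Agent.SGA3cLib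

noncomputable section

namespace Groth.Agent.HomogDim26

variable {k : Type u} [Field k]

theorem ptDim_eq_of_maximal_algClosed [IsAlgClosed k] {G X : Over (Spec (CommRingCat.of k))} [GrpObj G]
    [LocallyOfFiniteType G.hom] [LocallyOfFiniteType X.hom] (a : AlgGrp.Action G X)
    (hΦ : Surjective (lift a.act (snd G X)).left) {ζ₁ ζ₂ : X.left}
    (h₁ : ∀ z : X.left, z ⤳ ζ₁ → ζ₁ = z) (h₂ : ∀ z : X.left, z ⤳ ζ₂ → ζ₂ = z) :
    DimLib.ptDim X.hom ζ₁ = DimLib.ptDim X.hom ζ₂ := by
  obtain ⟨z₁, hz₁, hz₁c⟩ := DimLib.exists_isClosed_singleton_mem X.hom (S := closure {ζ₁})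
    ⟨ζ₁, subset_closure rfl⟩ isClosed_closure.isLocallyClosed
  obtain ⟨z₂, hz₂, hz₂c⟩ := DimLib.exists_isClosed_singleton_mem X.hom (S := closure {ζ₂})
    ⟨ζ₂, subset_closure rfl⟩ isClosed_closure.isLocallyClosed
  let pt : ∀ (Z : Over (Spec (CommRingCat.of k))) [LocallyOfFiniteType Z.hom] (z : Z.left),
      IsClosed ({z} : Set Z.left) → (𝟙_ (Over (Spec (CommRingCat.of k))) ⟶ Z) := fun Z _ z hz =>
    Over.homMk (pointOfClosedPoint Z.hom z hz) (pointOfClosedPoint_comp Z.hom z hz)
  have hpt : ∀ (Z : Over (Spec (CommRingCat.of k))) [LocallyOfFiniteType Z.hom] (z : Z.left)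
      (hz : IsClosed ({z} : Set Z.left)) t, (pt Z z hz).left.base t = z := fun Z _ z hz t =>
    pointOfClosedPoint_apply Z.hom z hz t
  let q₁ := pt X z₁ hz₁c
  let q₂ := pt X z₂ hz₂c
  let Φ := lift a.act (snd G X)
  let t0 : (𝟙_ (Over (Spec (CommRingCat.of k)))).left := IsLocalRing.closedPoint k
  let q : 𝟙_ (Over (Spec (CommRingCat.of k))) ⟶ X ⊗ X := lift q₁ q₂
  haveI : LocallyOfFiniteType (X ⊗ X).hom := by
    change LocallyOfFiniteType (pullback.fst X.hom X.hom ≫ X.hom)
    infer_instance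
  haveI : LocallyOfFiniteType (G ⊗ X).hom := by
    change LocallyOfFiniteType (pullback.fst G.hom X.hom ≫ G.hom)
    infer_instance
  have hqc : IsClosed ({q.left.base t0} : Set (X ⊗ X).left) :=
    ((pointEquivClosedPoint (X ⊗ X).hom) ⟨q.left, Over.w q⟩).2
  obtain ⟨y, hy, hyc⟩ := DimLib.exists_isClosed_singleton_mem (G ⊗ X).hom (S := Φ.left.base ⁻¹' {q.left.base t0})
    ((hΦ.surj _).imp fun _ h => h) (hqc.preimage Φ.left.continuous).isLocallyClosed
  let r := pt (G ⊗ X) y hyc
  have hr : r ≫ Φ = q := Over.OverMorphism.ext (ext_of_apply_closedPoint_eq (X ⊗ X).hom (Over.w (r ≫ Φ)) (Over.w q)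
    ((congrArg Φ.left.base (hpt _ y hyc t0)).trans hy))
  have e2 : r ≫ snd G X = q₂ := by
    rw [← show Φ ≫ snd X X = snd G X from lift_snd _ _, ← Category.assoc, hr, lift_snd]
  have e1 : smulPt a (r ≫ fst G X) q₂ = q₁ := by
    rw [← e2, smulPt, ← comp_lift, Category.assoc, lift_fst_snd, Category.id_comp,
      ← show Φ ≫ fst X X = a.act from lift_fst _ _, ← Category.assoc, hr, lift_fst]
  let g := r ≫ fst G X
  let L : X ≅ X :=
    { hom := smulPt a (toUnit X ≫ g) (𝟙 X)
      inv := smulPt a (toUnit X ≫ g)⁻¹ (𝟙 X)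
      hom_inv_id := by
        rw [comp_smulPt, GrpObj.comp_inv, ← Category.assoc, toUnit_unique (_ ≫ toUnit X) (toUnit X), Category.comp_id,
          inv_smulPt]
      inv_hom_id := by
        rw [comp_smulPt, ← Category.assoc, toUnit_unique (_ ≫ toUnit X) (toUnit X), Category.comp_id,
          ← mul_smulPt, mul_inv_cancel, one_smulPt] }
  have hL : q₂ ≫ L.hom = q₁ := by
    change q₂ ≫ smulPt a (toUnit X ≫ g) (𝟙 X) = q₁
    rw [comp_smulPt, Category.comp_id, ← Category.assoc, toUnit_unique (q₂ ≫ toUnit X) (𝟙 _), Category.id_comp]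
    exact e1
  let h := ((Over.forget _).mapIso L).hom.homeomorph
  have hh : h z₂ = z₁ := by
    rw [← hpt X z₂ hz₂c t0, ← hpt X z₁ hz₁c t0]
    exact congrArg (fun r => r.left.base t0) hL
  have e : ζ₁ = h ζ₂ := eq_of_specializes_of_homogeneous a hΦ (z := z₁)
    (VarietyLib.mem_genericPoints_iff.2 fun z hz => (h₁ z hz).symm)
    (homeomorph_mem_genericPoints h (VarietyLib.mem_genericPoints_iff.2 fun z hz => (h₂ z hz).symm))
    (specializes_iff_mem_closure.2 hz₁) (hh ▸ (specializes_iff_mem_closure.2 hz₂).map h.continuous)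
  rw [e]
  exact AlgGrpLib.ptDim_eq_of_homeomorph X.hom X.hom h ζ₂

theorem ptDim_eq_of_maximal {G X : Over (Spec (CommRingCat.of k))} [GrpObj G]
    [LocallyOfFiniteType G.hom] [LocallyOfFiniteType X.hom] (a : AlgGrp.Action G X)
    (hΦ : Surjective (lift a.act (snd G X)).left) {ζ₁ ζ₂ : X.left}
    (h₁ : ∀ z : X.left, z ⤳ ζ₁ → ζ₁ = z) (h₂ : ∀ z : X.left, z ⤳ ζ₂ → ζ₂ = z) :
    DimLib.ptDim X.hom ζ₁ = DimLib.ptDim X.hom ζ₂ := by
  let K := AlgebraicClosure k
  let s : Spec (CommRingCat.of K) ⟶ Spec (CommRingCat.of k) := Spec.map (CommRingCat.ofHom (algebraMap k K))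
  haveI : LocallyOfFiniteType (Red.bc s G).hom := inferInstanceAs (LocallyOfFiniteType (pullback.snd G.hom s))
  haveI : LocallyOfFiniteType (Red.bc s X).hom := inferInstanceAs (LocallyOfFiniteType (pullback.snd X.hom s))
  have key : ∀ x : X.left, (∀ z : X.left, z ⤳ x → x = z) → ∃ z : (Red.bc s X).left,
      (∀ w, w ⤳ z → z = w) ∧ DimLib.ptDim (Red.bc s X).hom z = DimLib.ptDim X.hom x := by
    intro x hx
    obtain ⟨z₀, hz₀, -⟩ := DimLib.exists_bc_point X.hom K x
    obtain ⟨z, hz, hmax⟩ := DimLib.exists_maximal_specializes (X := (Red.bc s X).left) z₀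
    have hzx : DimLib.bcFst X.hom K z = x :=
      (hx _ (hz₀ ▸ hz.map (DimLib.bcFst X.hom K).continuous)).symm
    refine ⟨z, hmax, ?_⟩
    rw [← hzx]
    exact DimLib.ptDim_bc_eq_of_maximal X.hom K fun w hw _ => hmax w hw
  obtain ⟨y₁, hy₁, e₁⟩ := key ζ₁ h₁
  obtain ⟨y₂, hy₂, e₂⟩ := key ζ₂ h₂
  rw [← e₁, ← e₂]
  exact ptDim_eq_of_maximal_algClosed (a.bc s) (surjective_bc a hΦ s) hy₁ hy₂

theorem dim_connectedComponent {G X : Over (Spec (CommRingCat.of k))} [GrpObj G]
    [LocallyOfFiniteType G.hom] [LocallyOfFiniteType X.hom] (a : AlgGrp.Action G X)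
    (hΦ : Surjective (lift a.act (snd G X)).left) (x : X.left) :
    topologicalKrullDim ↥(connectedComponent x) = topologicalKrullDim X.left := by
  obtain ⟨ζ, hζ, hmax⟩ := DimLib.exists_maximal_specializes x
  have hζmem : ζ ∈ connectedComponent x :=
    isIrreducible_singleton.closure.isPreirreducible.isPreconnected.subset_connectedComponent
      (specializes_iff_mem_closure.1 hζ) (subset_closure rfl)
  have hX : topologicalKrullDim X.left = (DimLib.ptDim X.hom ζ : WithBot ℕ∞) :=
    le_antisymm (DimLib.topologicalKrullDim_le_of_forall_maximal X.hom _ fun ξ hξ => by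
      rw [ptDim_eq_of_maximal a hΦ hξ hmax]) (DimLib.ptDim_le_topologicalKrullDim X.hom ζ)
  refine le_antisymm (Topology.IsEmbedding.subtypeVal.isInducing.topologicalKrullDim_le) ?_
  rw [hX, DimLib.topologicalKrullDim_locallyClosed_eq_iSup X.hom isClosed_connectedComponent.isLocallyClosed]
  exact le_iSup (fun z : connectedComponent x => (DimLib.ptDim X.hom z.1 : WithBot ℕ∞)) ⟨ζ, hζmem⟩

theorem main (A : Type u) [CommRing A] [IsArtinianRing A] [IsLocalRing A]
    (G X : Over (Spec (CommRingCat.of A))) [GrpObj G] [LocallyOfFiniteType G.hom] [LocallyOfFiniteType X.hom]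
    (a : AlgGrp.Action G X) (hΦ : Surjective (lift a.act (snd G X)).left) (x : X.left) :
    topologicalKrullDim ↥(connectedComponent x) = topologicalKrullDim X.left := by
  let π := Spec.map (CommRingCat.ofHom (IsLocalRing.residue A))
  haveI : IsClosedImmersion π := IsClosedImmersion.spec_of_surjective _ IsLocalRing.residue_surjective
  haveI : Subsingleton ↥(Spec (CommRingCat.of A)) :=
    show Subsingleton (PrimeSpectrum A) from ⟨fun x y => PrimeSpectrum.ext
      ((IsLocalRing.eq_maximalIdeal (inferInstance : x.asIdeal.IsMaximal)).trans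
        (IsLocalRing.eq_maximalIdeal (inferInstance : y.asIdeal.IsMaximal)).symm)⟩
  haveI : Surjective π := ⟨fun _ => ⟨IsLocalRing.closedPoint (IsLocalRing.ResidueField A), Subsingleton.elim _ _⟩⟩
  haveI : LocallyOfFiniteType (Red.bc π G).hom := inferInstanceAs (LocallyOfFiniteType (pullback.snd G.hom π))
  haveI : LocallyOfFiniteType (Red.bc π X).hom := inferInstanceAs (LocallyOfFiniteType (pullback.snd X.hom π))
  let p : (Red.bc π X).left ⟶ X.left := pullback.fst X.hom π
  haveI : IsClosedImmersion p := MorphismProperty.pullback_fst (P := @IsClosedImmersion) _ _ inferInstance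
  haveI : Surjective p := MorphismProperty.pullback_fst (P := @Surjective) _ _ inferInstance
  let e := p.isEmbedding.toHomeomorphOfSurjective p.surjective
  obtain ⟨x', rfl⟩ := e.surjective x
  have h := dim_connectedComponent (a.bc π) (surjective_bc a hΦ π) x'
  have himg : e '' connectedComponent x' = connectedComponent (e x') := by
    have := e.image_connectedComponentIn (s := Set.univ) (x := x') (Set.mem_univ _)
    simpa [connectedComponentIn_univ, e.surjective.range_eq] using this
  rw [← himg, ← (e.isEmbedding.homeomorphImage _).isHomeomorph.topologicalKrullDim_eq, h]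
  exact e.isHomeomorph.topologicalKrullDim_eq

end Groth.Agent.HomogDim26
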